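import Mathlib
import Groth.Prelude.Def_EGA4Misc
import Groth.Prelude.Def_ProCons
import Groth.Agent.Lib.Lead.PBQc
import Groth.Agent.Lib.Lead.LimZ4
import Groth.Agent.Lib.Helper7.ConsPair.Basic

set_option linter.style.haveILetI false
set_option linter.unusedVariables false
set_option linter.unusedSectionVars false
set_option autoImplicit false
set_option backward.isDefEq.respectTransparency.types false
set_option synthInstance.maxHeartbeats 400000
set_option maxHeartbeats 1600000

universe u

/-! helper7: base change of the locus of a field-stable relation on schemes with a module; coherence of pullbacks; neighbourhoods of a generic point in constructible, locally constructible and ind-constructible sets -/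

open CategoryTheory CategoryTheory.Limits AlgebraicGeometry Topology

namespace Groth.Agent.Helper7.ConsMod

/-- pullbacks of coherent modules are coherent. -/
theorem isCoh_pullback {X' X : Scheme.{u}} (f : X' ⟶ X) (M : X.Modules) (hM : Coh.IsCoh M) :
    Coh.IsCoh ((Scheme.Modules.pullback f).obj M) := by
  haveI : M.IsQuasicoherent := hM.1
  exact ⟨Groth.Agent.Lead.PB.isQuasicoherent_pullback f M,
    Groth.Agent.Lead.PB.isFT_pullback f M hM.2⟩

/-- finitely presented modules are coherent (quasi-coherent of finite type). -/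
theorem isCoh_of_isFP {X : Scheme.{u}} (M : X.Modules) (hM : CohB1.IsFP M) : Coh.IsCoh M := by
  haveI := hM
  exact ⟨inferInstance, inferInstance⟩

/-- the comparison of the pullbacks along the two ways round a commutative square. -/
noncomputable def pullbackSquareIso {A B C E : Scheme.{u}} {a : A ⟶ B} {b : B ⟶ E} {a' : A ⟶ C}
    {c : C ⟶ E} (w : a ≫ b = a' ≫ c) (M : E.Modules) :
    (Scheme.Modules.pullback a).obj ((Scheme.Modules.pullback b).obj M) ≅
      (Scheme.Modules.pullback a').obj ((Scheme.Modules.pullback c).obj M) :=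
  (Scheme.Modules.pullbackComp a b).app M ≪≫ (Scheme.Modules.pullbackCongr w).app M ≪≫
    ((Scheme.Modules.pullbackComp a' c).app M).symm

/-- the comparison of pullbacks along a factorization. -/
noncomputable def pullbackFacIso {A B E : Scheme.{u}} {a : A ⟶ B} {b : B ⟶ E} {d : A ⟶ E}
    (w : a ≫ b = d) (M : E.Modules) :
    (Scheme.Modules.pullback d).obj M ≅
      (Scheme.Modules.pullback a).obj ((Scheme.Modules.pullback b).obj M) :=
  (Scheme.Modules.pullbackCongr w.symm).app M ≪≫ ((Scheme.Modules.pullbackComp a b).app M).symm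

set_option backward.isDefEq.respectTransparency false in
/-- the locus of a field-stable relation on schemes with a module commutes with base change. -/
theorem locusMod_eq_preimage {P : ∀ ⦃Y T : Scheme.{u}⦄, (Y ⟶ T) → Y.Modules → Prop}
    (hP : ConsProp.IsFieldStableMod P) {X S X' S' : Scheme.{u}} (u : X ⟶ S) (π : S' ⟶ S)
    (u' : X' ⟶ S') (q : X' ⟶ X) (h : IsPullback q u' u π) [LocallyOfFiniteType u]
    [QuasiCompact u] (F : X.Modules) (hF : Coh.IsCoh F) (F' : X'.Modules)
    (eF : F' ≅ (Scheme.Modules.pullback q).obj F) :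
    ConsProp.locusMod P u' F' = π ⁻¹' ConsProp.locusMod P u F := by
  ext s'
  have hpb := isPullback_fiberToSpecResidueField_of_isPullback h s'
  have he : pullback.map _ _ _ _ q (Spec.map (π.residueFieldMap s')) π h.w.symm (by simp) ≫
      u.fiberι (π s') = u'.fiberι s' ≫ q := pullback.lift_fst _ _ _
  exact (hP (u.fiberToSpecResidueField (π s')) (u'.fiberToSpecResidueField s') _
    (Spec.map (π.residueFieldMap s')) hpb
    ((Scheme.Modules.pullback (u.fiberι (π s'))).obj F)
    ((Scheme.Modules.pullback (u'.fiberι s')).obj F')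
    (isCoh_pullback _ F hF)
    ((Scheme.Modules.pullback (u'.fiberι s')).mapIso eF ≪≫ pullbackSquareIso he.symm F)).symm

section Top

variable {X : Type*} [TopologicalSpace X] {η : X}

/-- a constructible set containing a point lying in every nonempty open set is a neighbourhood
of it, and otherwise its complement is. -/
theorem nhds_of_isConstructible (hη : ∀ U : Set X, IsOpen U → U.Nonempty → η ∈ U) {C : Set X}
    (hC : IsConstructible C) : (η ∈ C → C ∈ 𝓝 η) ∧ (η ∉ C → Cᶜ ∈ 𝓝 η) := by
  induction hC using IsConstructible.empty_union_induction with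
  | open_retrocompact U hUo hUc =>
    refine ⟨fun h => hUo.mem_nhds h, fun h => ?_⟩
    have hU : U = ∅ := by
      by_contra hne
      exact h (hη U hUo (Set.nonempty_iff_ne_empty.mpr hne))
    rw [hU, Set.compl_empty]
    exact Filter.univ_mem
  | union s hs t ht ihs iht =>
    refine ⟨fun h => ?_, fun h => ?_⟩
    · rcases h with h | h
      · exact Filter.mem_of_superset (ihs.1 h) Set.subset_union_left
      · exact Filter.mem_of_superset (iht.1 h) Set.subset_union_right
    · rw [Set.compl_union]
      exact Filter.inter_mem (ihs.2 fun h' => h (Or.inl h')) (iht.2 fun h' => h (Or.inr h'))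
  | compl s hs ih =>
    refine ⟨fun h => ih.2 h, fun h => ?_⟩
    rw [compl_compl]
    apply ih.1
    by_contra h'
    exact h h'

/-- transfer of neighbourhoods from an open subspace. -/
theorem mem_nhds_of_preimage_val {U : Set X} (hU : U ∈ 𝓝 η) (hηU : η ∈ U) (W : Set X)
    (hW : (Subtype.val ⁻¹' W : Set U) ∈ 𝓝 (⟨η, hηU⟩ : U)) : W ∈ 𝓝 η := by
  rw [mem_nhds_subtype] at hW
  obtain ⟨t, ht, hsub⟩ := hW
  refine Filter.mem_of_superset (Filter.inter_mem ht hU) ?_
  rintro x ⟨hxt, hxU⟩
  exact hsub (show (⟨x, hxU⟩ : U) ∈ Subtype.val ⁻¹' t from hxt)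

/-- the generic point property passes to open subspaces. -/
theorem generic_subtype (hη : ∀ U : Set X, IsOpen U → U.Nonempty → η ∈ U) {U : Set X}
    (hUo : IsOpen U) (hηU : η ∈ U) (V : Set U) (hV : IsOpen V) (hne : V.Nonempty) :
    (⟨η, hηU⟩ : U) ∈ V := by
  obtain ⟨v, hv⟩ := hne
  have hVo : IsOpen (Subtype.val '' V) := hUo.isOpenMap_subtype_val V hV
  obtain ⟨w, hw, hwe⟩ := hη _ hVo ⟨v.1, v, hv, rfl⟩
  have hwη : w = ⟨η, hηU⟩ := Subtype.ext hwe
  rw [← hwη]
  exact hw

/-- a locally constructible set containing a point lying in every nonempty open set is a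
neighbourhood of it, and otherwise its complement is. -/
theorem nhds_of_isLocallyConstructible (hη : ∀ U : Set X, IsOpen U → U.Nonempty → η ∈ U)
    {T : Set X} (hT : IsLocallyConstructible T) :
    (η ∈ T → T ∈ 𝓝 η) ∧ (η ∉ T → Tᶜ ∈ 𝓝 η) := by
  obtain ⟨U, hUη, hUo, hUc⟩ := hT η
  have hηU : η ∈ U := mem_of_mem_nhds hUη
  have key := nhds_of_isConstructible (generic_subtype hη hUo hηU) hUc
  refine ⟨fun h => mem_nhds_of_preimage_val hUη hηU T (key.1 h),
    fun h => mem_nhds_of_preimage_val hUη hηU Tᶜ ?_⟩
  have h2 := key.2 h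
  rwa [← Set.preimage_compl] at h2

/-- an ind-constructible set containing a point lying in every nonempty open set is a
neighbourhood of it. -/
theorem nhds_of_isIndConstructible (hη : ∀ U : Set X, IsOpen U → U.Nonempty → η ∈ U)
    {E : Set X} (hE : ProCons.IsIndConstructible E) (hηE : η ∈ E) : E ∈ 𝓝 η := by
  obtain ⟨U, hUo, hηU, 𝒮, h𝒮, hE𝒮⟩ := hE η
  have hmem : (⟨η, hηU⟩ : U) ∈ (Subtype.val ⁻¹' E : Set U) := hηE
  rw [hE𝒮] at hmem
  obtain ⟨T, hT𝒮, hηT⟩ := hmem
  have h1 := (nhds_of_isLocallyConstructible (generic_subtype hη hUo hηU) (h𝒮 T hT𝒮)).1 hηT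
  refine mem_nhds_of_preimage_val (hUo.mem_nhds hηU) hηU E ?_
  rw [hE𝒮]
  exact Filter.mem_of_superset h1 (Set.subset_sUnion_of_mem hT𝒮)

end Top

/-- the generic point of an irreducible scheme lies in every nonempty open subset. -/
theorem genericPoint_mem_of_isOpen (S : Scheme.{u}) [IrreducibleSpace S] (U : Set S)
    (hU : IsOpen U) (hne : U.Nonempty) : genericPoint S ∈ U := by
  rw [(genericPoint_spec S).mem_open_set_iff hU]
  simpa using hne

end Groth.Agent.Helper7.ConsMod
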