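import Mathlib
import Groth.Agent.Lib.Helper7.ConsMod.Basic
import Groth.Agent.Lib.Helper7.ModDesc.Main
import Groth.Agent.Lib.Helper7.LimDesc4
import Groth.Agent.Lib.Helper7.FGSub2

set_option linter.style.haveILetI false
set_option linter.unusedVariables false
set_option linter.unusedSectionVars false
set_option autoImplicit false
set_option backward.isDefEq.respectTransparency.types false
set_option synthInstance.maxHeartbeats 400000
set_option maxHeartbeats 1600000

universe u

/-! helper7: Noetherian models of a scheme of finite presentation over an affine base together with a finitely presented module -/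

open CategoryTheory CategoryTheory.Limits AlgebraicGeometry Opposite

namespace Groth.Agent.Helper7.ConsMod

open Groth.Agent.Helper7.LimBC Groth.Agent.Helper7.LimDesc Groth.Agent.Helper7

set_option backward.isDefEq.respectTransparency false in
/-- a scheme of finite presentation over an affine scheme with a finitely presented module comes
by base change from a scheme of finite type over the spectrum of a Noetherian ring with a
coherent module. -/
theorem exists_noetherian_model_mod (A : Type u) [CommRing A] {X : Scheme.{u}}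
    (u : X ⟶ Spec (CommRingCat.of A)) [LocallyOfFinitePresentation u] [QuasiCompact u]
    [QuasiSeparated u] (F : X.Modules) [F.IsQuasicoherent] (hF : CohB1.IsFP F) :
    ∃ (A₀ : Type u) (_ : CommRing A₀) (_ : IsNoetherianRing A₀)
      (π : Spec (CommRingCat.of A) ⟶ Spec (CommRingCat.of A₀)) (X₀ : Scheme.{u})
      (u₀ : X₀ ⟶ Spec (CommRingCat.of A₀)) (q : X ⟶ X₀) (F₀ : X₀.Modules),
      LocallyOfFiniteType u₀ ∧ QuasiCompact u₀ ∧ IsPullback q u u₀ π ∧ Coh.IsCoh F₀ ∧
        Nonempty (F ≅ (Scheme.Modules.pullback q).obj F₀) := by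
  obtain ⟨j₁, ⟨M₁⟩⟩ := desc_of_finitePresentation (FGSub.isLimit_specCone A).some u
  haveI : CompactSpace ↥M₁.Zj := QuasiCompact.compactSpace_of_compactSpace M₁.zj
  haveI : QuasiSeparatedSpace ↥M₁.Zj := quasiSeparatedSpace_of_quasiSeparated M₁.zj
  obtain ⟨k, -, Fk, hFkq, hFkfp, ⟨e⟩⟩ := Groth.Agent.Helper7.ModDesc.exists_descend
    (bcDiagram (FGSub.specDiag A) j₁ M₁.zj) (bcCone M₁.isPullback)
    (isLimitBcCone (FGSub.isLimit_specCone A).some M₁.isPullback) (Over.mk (𝟙 j₁)) F hF
  have hN : IsNoetherianRing ↥k.left.unop.1 := by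
    have : Algebra.FiniteType ℤ ↥k.left.unop.1 :=
      (Subalgebra.fg_iff_finiteType _).mp k.left.unop.2
    exact Algebra.FiniteType.isNoetherianRing ℤ _
  exact ⟨↥k.left.unop.1, inferInstance, hN, (FGSub.specCone A).π.app k.left,
    pullback M₁.zj ((FGSub.specDiag A).map k.hom),
    pullback.snd M₁.zj ((FGSub.specDiag A).map k.hom), (bcCone M₁.isPullback).π.app k, Fk,
    inferInstance, inferInstance, isPullback_bcCone_π M₁.isPullback k, isCoh_of_isFP Fk hFkfp,
    ⟨e.symm⟩⟩

end Groth.Agent.Helper7.ConsMod
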