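import Mathlib
import Groth.Agent.Lib.Helper7.ConsMod.Model
import Groth.Agent.Lib.Helper7.ConsPair.Top
import Groth.Agent.Lib.Helper7.ConsPair.LimLocus
import Groth.Agent.Lib.Helper7.ProConsLib3

set_option linter.style.haveILetI false
set_option linter.unusedVariables false
set_option linter.unusedSectionVars false
set_option autoImplicit false
set_option backward.isDefEq.respectTransparency.types false
set_option synthInstance.maxHeartbeats 400000
set_option maxHeartbeats 1600000

universe u

/-! helper7: the locus of a constructible (ind-constructible) relation on schemes with a coherent module in a family of finite presentation is locally constructible (ind-constructible); generic point statements; the limit statement -/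

open CategoryTheory CategoryTheory.Limits AlgebraicGeometry Opposite Topology TopologicalSpace

namespace Groth.Agent.Helper7.ConsMod

open Groth.Agent.Helper7.ProConsLib Groth.Agent.Helper7.ConsPair Groth.Agent.Helper7

variable {P : ∀ ⦃Y T : Scheme.{u}⦄, (Y ⟶ T) → Y.Modules → Prop}

set_option backward.isDefEq.respectTransparency false in
/-- the locus of an ind-constructible relation with a module over a Noetherian affine base. -/
theorem isIndConstructible_locusMod_noeth (hP : ConsProp.IsIndConsMod P) (A : Type u)
    [CommRing A] [IsNoetherianRing A] {X : Scheme.{u}} (u : X ⟶ Spec (CommRingCat.of A))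
    [LocallyOfFiniteType u] [QuasiCompact u] (F : X.Modules) (hF : Coh.IsCoh F) :
    ProCons.IsIndConstructible (ConsProp.locusMod P u F) := by
  apply isIndConstructible_of_forall_prime
  intro x hx
  have h := IsPullback.of_hasPullback u (primeIncl A x)
  have hloc := locusMod_eq_preimage hP.1 u (primeIncl A x) _ _ h F hF _ (Iso.refl _)
  rw [← hloc]
  apply hP.2 (pullback.snd u (primeIncl A x)) _ (isCoh_pullback _ F hF)
  rw [hloc, Set.mem_preimage, primeIncl_genericPoint]
  exact hx

set_option backward.isDefEq.respectTransparency false in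
/-- the locus of a constructible relation with a module over a Noetherian affine base. -/
theorem isConstructible_locusMod_noeth (hP : ConsProp.IsConsMod P) (A : Type u)
    [CommRing A] [IsNoetherianRing A] {X : Scheme.{u}} (u : X ⟶ Spec (CommRingCat.of A))
    [LocallyOfFiniteType u] [QuasiCompact u] (F : X.Modules) (hF : Coh.IsCoh F) :
    IsConstructible (ConsProp.locusMod P u F) := by
  apply isConstructible_of_forall_prime
  intro x
  have h := IsPullback.of_hasPullback u (primeIncl A x)
  have hloc := locusMod_eq_preimage hP.1 u (primeIncl A x) _ _ h F hF _ (Iso.refl _)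
  rw [← hloc]
  exact hP.2 (pullback.snd u (primeIncl A x)) _ (isCoh_pullback _ F hF)

/-- **ind-constructible case** for relations with a module. -/
theorem isIndConstructible_locusMod (hP : ConsProp.IsIndConsMod P) {X S : Scheme.{u}}
    (u : X ⟶ S) [LocallyOfFinitePresentation u] [QuasiCompact u] [QuasiSeparated u]
    (F : X.Modules) [F.IsQuasicoherent] (hF : CohB1.IsFP F) :
    ProCons.IsIndConstructible (ConsProp.locusMod P u F) := by
  apply isIndConstructible_of_forall_affineOpen
  intro V hV
  have h := IsPullback.of_hasPullback u hV.fromSpec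
  rw [← locusMod_eq_preimage hP.1 u hV.fromSpec _ _ h F (isCoh_of_isFP F hF) _ (Iso.refl _)]
  haveI : ((Scheme.Modules.pullback (pullback.fst u hV.fromSpec)).obj F).IsQuasicoherent :=
    Groth.Agent.Lead.PB.isQuasicoherent_pullback _ F
  obtain ⟨A₀, _, _, π, X₀, u₀, q, F₀, _, _, hpb, hF₀, ⟨e⟩⟩ :=
    exists_noetherian_model_mod ↑Γ(S, V) (pullback.snd u hV.fromSpec)
      ((Scheme.Modules.pullback (pullback.fst u hV.fromSpec)).obj F)
      (Groth.Agent.Lead.LimZ.isFP_pullback _ F hF)
  rw [locusMod_eq_preimage hP.1 u₀ π _ q hpb F₀ hF₀ _ e]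
  exact isIndConstructible_preimage π (isIndConstructible_locusMod_noeth hP A₀ u₀ F₀ hF₀)

/-- **constructible case** for relations with a module. -/
theorem isLocallyConstructible_locusMod (hP : ConsProp.IsConsMod P) {X S : Scheme.{u}}
    (u : X ⟶ S) [LocallyOfFinitePresentation u] [QuasiCompact u] [QuasiSeparated u]
    (F : X.Modules) [F.IsQuasicoherent] (hF : CohB1.IsFP F) :
    IsLocallyConstructible (ConsProp.locusMod P u F) := by
  apply isLocallyConstructible_of_forall_affineOpen
  intro V hV
  have h := IsPullback.of_hasPullback u hV.fromSpec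
  rw [← locusMod_eq_preimage hP.1 u hV.fromSpec _ _ h F (isCoh_of_isFP F hF) _ (Iso.refl _)]
  haveI : ((Scheme.Modules.pullback (pullback.fst u hV.fromSpec)).obj F).IsQuasicoherent :=
    Groth.Agent.Lead.PB.isQuasicoherent_pullback _ F
  obtain ⟨A₀, _, _, π, X₀, u₀, q, F₀, _, _, hpb, hF₀, ⟨e⟩⟩ :=
    exists_noetherian_model_mod ↑Γ(S, V) (pullback.snd u hV.fromSpec)
      ((Scheme.Modules.pullback (pullback.fst u hV.fromSpec)).obj F)
      (Groth.Agent.Lead.LimZ.isFP_pullback _ F hF)
  rw [locusMod_eq_preimage hP.1 u₀ π _ q hpb F₀ hF₀ _ e]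
  exact isLocallyConstructible_preimage π
    (isConstructible_locusMod_noeth hP A₀ u₀ F₀ hF₀).isLocallyConstructible

/-- for a constructible relation with a module over an irreducible base, the locus or its
complement is a neighbourhood of the generic point. -/
theorem genericPoint_mem_interior_or (hP : ConsProp.IsConsMod P) {X S : Scheme.{u}}
    [IrreducibleSpace S] (u : X ⟶ S) [LocallyOfFinitePresentation u] [QuasiCompact u]
    [QuasiSeparated u] (F : X.Modules) [F.IsQuasicoherent] (hF : CohB1.IsFP F) :
    genericPoint S ∈ interior (ConsProp.locusMod P u F) ∨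
      genericPoint S ∈ interior (ConsProp.locusMod P u F)ᶜ := by
  have key := nhds_of_isLocallyConstructible (genericPoint_mem_of_isOpen S)
    (isLocallyConstructible_locusMod hP u F hF)
  by_cases hη : genericPoint S ∈ ConsProp.locusMod P u F
  · exact Or.inl (mem_interior_iff_mem_nhds.mpr (key.1 hη))
  · exact Or.inr (mem_interior_iff_mem_nhds.mpr (key.2 hη))

/-- for an ind-constructible relation with a module over an irreducible base, the locus is a
neighbourhood of the generic point as soon as it contains it. -/
theorem genericPoint_mem_interior (hP : ConsProp.IsIndConsMod P) {X S : Scheme.{u}}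
    [IrreducibleSpace S] (u : X ⟶ S) [LocallyOfFinitePresentation u] [QuasiCompact u]
    [QuasiSeparated u] (F : X.Modules) [F.IsQuasicoherent] (hF : CohB1.IsFP F)
    (hη : genericPoint S ∈ ConsProp.locusMod P u F) :
    genericPoint S ∈ interior (ConsProp.locusMod P u F) :=
  mem_interior_iff_mem_nhds.mpr (nhds_of_isIndConstructible (genericPoint_mem_of_isOpen S)
    (isIndConstructible_locusMod hP u F hF) hη)

section Lim

variable {I : Type u} [Category.{u} I] [IsCofiltered I] (D : I ⥤ Scheme.{u}) (c : Cone D)
  (hc : IsLimit c) [∀ {i j : I} (f : i ⟶ j), IsAffineHom (D.map f)]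

set_option backward.isDefEq.respectTransparency false in
include hc in
/-- the limit statement for ind-constructible relations with a module. -/
theorem forall_mem_locusMod_iff (hP : ConsProp.IsIndConsMod P) (i₀ : I)
    [CompactSpace ↥(D.obj i₀)] {X₀ : Scheme.{u}} (u₀ : X₀ ⟶ D.obj i₀)
    [LocallyOfFinitePresentation u₀] [QuasiCompact u₀] [QuasiSeparated u₀]
    (F₀ : X₀.Modules) [F₀.IsQuasicoherent] (hF₀ : CohB1.IsFP F₀)
    {X : Scheme.{u}} (u : X ⟶ c.pt) (q : X ⟶ X₀) (hX : IsPullback q u u₀ (c.π.app i₀)) :
    (∀ s : ↥c.pt, s ∈ ConsProp.locusMod P u ((Scheme.Modules.pullback q).obj F₀)) ↔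
      ∃ (j : I) (φ : j ⟶ i₀) (Xj : Scheme.{u}) (uj : Xj ⟶ D.obj j) (p : Xj ⟶ X₀),
        IsPullback p uj u₀ (D.map φ) ∧
          ∀ t : ↥(D.obj j), t ∈ ConsProp.locusMod P uj ((Scheme.Modules.pullback p).obj F₀) := by
  have hcoh : Coh.IsCoh F₀ := isCoh_of_isFP F₀ hF₀
  constructor
  · intro hall
    have hloc := locusMod_eq_preimage hP.1 u₀ (c.π.app i₀) u q hX F₀ hcoh _ (Iso.refl _)
    obtain ⟨j, φ, hj⟩ := exists_stage_preimage_eq_univ D c hc i₀
      (isIndConstructible_locusMod hP u₀ F₀ hF₀) (fun s => by
        have := hall s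
        rw [hloc] at this
        exact this)
    refine ⟨j, φ, pullback u₀ (D.map φ), pullback.snd _ _, pullback.fst _ _,
      IsPullback.of_hasPullback _ _, fun t => ?_⟩
    rw [locusMod_eq_preimage hP.1 u₀ (D.map φ) _ _ (IsPullback.of_hasPullback _ _) F₀ hcoh _
      (Iso.refl _)]
    exact hj t
  · rintro ⟨j, φ, Xj, uj, p, hXj, hall⟩ s
    have i1 : LocallyOfFiniteType uj := MorphismProperty.of_isPullback hXj inferInstance
    have i2 : QuasiCompact uj := MorphismProperty.of_isPullback hXj inferInstance
    obtain ⟨r, hr1, hr⟩ := exists_isPullback_of_fac hXj (c.π.app j) (c.π.app i₀) (c.w φ) hX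
    rw [locusMod_eq_preimage hP.1 uj (c.π.app j) u r hr ((Scheme.Modules.pullback p).obj F₀)
      (isCoh_pullback p F₀ hcoh) _ (pullbackFacIso hr1 F₀)]
    exact hall _

end Lim

end Groth.Agent.Helper7.ConsMod
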